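/-
A p-group (p odd) generated by each of two sets, acting coprimely on N so that N is the product of the fixed
points of any two generators on every invariant subgroup, acts trivially.
Main results (namespace `Cfsg.Agent.TwoSetsFixed`): `fixed_of_cond`.
-/
import Cfsg.Agent.EqLemmas

set_option autoImplicit false
set_option linter.unusedSectionVars false

namespace Cfsg.Agent.TwoSetsFixed

open scoped Pointwise

section Count

variable {V : Type*} [CommGroup V] [Finite V]

/-- An automorphism `a` moving the fixed points of `c` into two further spaces. -/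
theorem card_fixed_pow_three (a c z : MulAut V) (hcz : c * a = z * (a * c)) (hz : z * c = c * z) (hza : z * a = a * z)
    (h1 : ∀ v, z v = v → v = 1) (h2 : ∀ v, z (z v) = v → v = 1) :
    Nat.card {v : V // c v = v} ^ 3 ≤ Nat.card V := by
  let f : {v : V // c v = v} × {v : V // c v = v} × {v : V // c v = v} → V :=
    fun t => t.1.1 * a t.2.1.1 * a (a t.2.2.1)
  have hca : ∀ v, c v = v → c (a v) = z (a v) := fun v hv => by
    have := DFunLike.congr_fun hcz v
    simpa only [MulAut.mul_apply, hv] using this
  have hczv : ∀ v, c (z v) = z (c v) := fun v => (DFunLike.congr_fun hz v).symm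
  have hazv : ∀ v, a (z v) = z (a v) := fun v => (DFunLike.congr_fun hza v).symm
  have hcaa : ∀ v, c v = v → c (a (a v)) = z (z (a (a v))) := fun v hv => by
    have := DFunLike.congr_fun hcz (a v)
    simpa only [MulAut.mul_apply, hca v hv, hazv] using this
  have hf : Function.Injective f := by
    rintro ⟨u, v, w⟩ ⟨u', v', w'⟩ h
    simp only [f] at h
    set A := a (v.1 / v'.1) with hA
    set B := a (a (w.1 / w'.1)) with hB
    set U := u.1 / u'.1 with hU
    have e1 : U * A * B = 1 := by
      rw [hA, hB, hU, map_div, map_div, map_div, div_mul_div_comm, div_mul_div_comm, h, div_self']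
    have hcU : c U = U := by rw [hU, map_div, u.2, u'.2]
    have hcA : c A = z A := hca _ (by rw [map_div, v.2, v'.2])
    have hcB : c B = z (z B) := hcaa _ (by rw [map_div, w.2, w'.2])
    have e2 : U * z A * z (z B) = 1 := by rw [← hcU, ← hcA, ← hcB, ← map_mul, ← map_mul, e1, map_one]
    have e3 : U * z (z A) * z (z (z (z B))) = 1 := by
      have := congrArg c e2
      rwa [map_mul, map_mul, map_one, hcU, hczv, hczv, hczv, hcA, hcB] at this
    have hEA : (z A / A) * (z (z B) / B) = 1 := by
      have : (U * z A * z (z B)) / (U * A * B) = 1 := by rw [e1, e2, div_one]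
      rwa [mul_div_mul_comm, mul_div_mul_comm, div_self', one_mul] at this
    have hEB : (z (z A) / z A) * (z (z (z (z B))) / z (z B)) = 1 := by
      have : (U * z (z A) * z (z (z (z B)))) / (U * z A * z (z B)) = 1 := by rw [e3, e2, div_one]
      rwa [mul_div_mul_comm, mul_div_mul_comm, div_self', one_mul] at this
    have hzE := congrArg z hEA
    rw [map_mul, map_one, map_div, map_div] at hzE
    have hE : z (z (z (z B))) / z (z B) = z (z (z B)) / z B := mul_left_cancel (hEB.trans hzE.symm)
    set E := z (z B) / B with hEdef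
    have hE' : z (z E) = z E := by rw [hEdef, map_div, map_div]; exact hE
    have hE1 : E = 1 := h1 E (z.injective hE')
    have hB1 : B = 1 := h2 B (div_eq_one.1 hE1)
    rw [hE1, mul_one] at hEA
    have hA1 : A = 1 := h1 A (div_eq_one.1 hEA)
    rw [hA1, hB1, mul_one, mul_one] at e1
    have hv : v.1 = v'.1 := div_eq_one.1 (a.injective (hA1.trans (map_one a).symm))
    have hw : w.1 = w'.1 := div_eq_one.1 (a.injective (a.injective (hB1.trans (by rw [map_one, map_one]))))
    exact Prod.ext (Subtype.ext (div_eq_one.1 e1)) (Prod.ext (Subtype.ext hv) (Subtype.ext hw))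
  have := Nat.card_le_card_of_injective f hf
  rw [Nat.card_prod, Nat.card_prod] at this
  exact le_trans (le_of_eq (by ring)) this

end Count

variable {p : ℕ} [Fact p.Prime] {P : Type*} [Group P] [Finite P]

/-- The condition on an invariant subgroup. -/
def Cond {N : Type*} [Group N] (φ : P →* MulAut N) (C D : Set P) : Prop :=
  ∀ M : Subgroup N, (∀ g, ∀ m ∈ M, φ g m ∈ M) → ∀ x ∈ M, ∀ c ∈ C, ∀ d ∈ D,
    ∃ y ∈ M, φ d y = y ∧ φ c (y⁻¹ * x) = y⁻¹ * x

/-- The abelian irreducible case. -/
theorem irreducible_case (hp3 : 3 ≤ p) (hP : IsPGroup p P) {V : Type*} [CommGroup V] [Finite V]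
    (φ : P →* MulAut V) {C D : Set P} (hC : Subgroup.closure C = ⊤) (hD : Subgroup.closure D = ⊤)
    (hcond : Cond φ C D) (hirr : ∀ M : Subgroup V, (∀ g, ∀ m ∈ M, φ g m ∈ M) → M = ⊥ ∨ M = ⊤) :
    ∀ g v, φ g v = v := by
  classical
  set R := φ.range
  have hR : IsPGroup p R := hP.of_surjective φ.rangeRestrict φ.rangeRestrict_surjective
  suffices hbot : ∀ r : R, r = 1 by
    intro g v
    have : φ g = 1 := congrArg Subtype.val (hbot ⟨φ g, g, rfl⟩)
    rw [this]; rfl
  by_contra hne
  push_neg at hne
  obtain ⟨r0, hr0⟩ := hne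
  haveI : Nontrivial R := ⟨⟨r0, 1, hr0⟩⟩
  have key : ∀ z : R, z ∈ Subgroup.center R → z ≠ 1 → ∀ v, z.1 v = v → v = 1 := by
    intro z hz hz1 v hv
    let M : Subgroup V := (z.1 : V ≃* V).toMonoidHom.eqLocus (MonoidHom.id V)
    have hM : ∀ g, ∀ m ∈ M, φ g m ∈ M := fun g m hm => by
      show z.1 (φ g m) = φ g m
      have hc := congrArg Subtype.val (Subgroup.mem_center_iff.1 hz ⟨φ g, g, rfl⟩)
      have := DFunLike.congr_fun hc m
      simp only [Subgroup.coe_mul, MulAut.mul_apply] at this
      rw [← this, show z.1 m = m from hm]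
    rcases hirr M hM with h | h
    · exact Subgroup.mem_bot.1 (h ▸ (show v ∈ M from hv))
    · exact absurd (Subtype.ext (MulEquiv.ext fun w => by
        have hw : z.1 w = w := (h ▸ Subgroup.mem_top w : w ∈ M)
        simpa using hw)) hz1
  have gen : ∀ (X : Set P), Subgroup.closure X = ⊤ → ∀ q : R → Prop, (∀ x ∈ X, q ⟨φ x, x, rfl⟩) →
      (∀ a b, q a → q b → q (a * b)) → q 1 → (∀ a, q a → q a⁻¹) → ∀ r, q r := by
    intro X hX q hx hm h1 hi r
    obtain ⟨g, hg⟩ := φ.rangeRestrict_surjective r
    rw [← hg]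
    clear hg
    have hgX : g ∈ Subgroup.closure X := hX ▸ Subgroup.mem_top g
    induction hgX using Subgroup.closure_induction with
    | mem y hy => exact hx y hy
    | one => rw [map_one]; exact h1
    | mul a b _ _ ha hb => rw [map_mul]; exact hm _ _ ha hb
    | inv a _ ha => rw [map_inv]; exact hi _ ha
  have exC : ∀ (X : Set P), Subgroup.closure X = ⊤ → ∀ H : Subgroup R, H ≠ ⊤ → ∃ x ∈ X, (⟨φ x, x, rfl⟩ : R) ∉ H := by
    intro X hX H hH
    by_contra hcon
    push_neg at hcon
    exact hH ((Subgroup.eq_top_iff' H).2 (gen X hX (· ∈ H) hcon (fun _ _ => H.mul_mem) H.one_mem (fun _ => H.inv_mem)))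
  have hbound : ∀ c : P, ∀ d : P, c ∈ C → d ∈ D →
      Nat.card V ≤ Nat.card {v : V // φ c v = v} * Nat.card {v : V // φ d v = v} := by
    intro c d hc hd
    rw [← Nat.card_prod]
    refine Nat.card_le_card_of_surjective (fun t => t.2.1 * t.1.1) fun x => ?_
    obtain ⟨y, -, hy1, hy2⟩ := hcond ⊤ (fun _ _ _ => trivial) x trivial c hc d hd
    exact ⟨(⟨y⁻¹ * x, hy2⟩, ⟨y, hy1⟩), mul_inv_cancel_left y x⟩
  have hV : 1 < Nat.card V := by
    by_contra hle
    haveI : Subsingleton V := Finite.card_le_one_iff_subsingleton.1 (by omega)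
    exact hr0 (Subtype.ext (MulEquiv.ext fun v => Subsingleton.elim _ _))
  by_cases hab : Subgroup.center R = ⊤
  · obtain ⟨c, hc, hc1⟩ := exC C hC ⊥ bot_ne_top
    obtain ⟨d, hd, hd1⟩ := exC D hD ⊥ bot_ne_top
    rw [Subgroup.mem_bot] at hc1 hd1
    have one : ∀ x : P, (⟨φ x, x, rfl⟩ : R) ≠ 1 → Nat.card {v : V // φ x v = v} = 1 := fun x hx => by
      rw [Nat.card_eq_one_iff_unique]
      refine ⟨⟨fun v w => Subtype.ext ?_⟩, ⟨⟨1, map_one _⟩⟩⟩
      have h := key ⟨φ x, x, rfl⟩ (hab ▸ Subgroup.mem_top _) hx
      rw [h v.1 v.2, h w.1 w.2]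
    have := hbound c d hc hd
    rw [one c hc1, one d hd1] at this
    omega
  · have hq : IsPGroup p (R ⧸ Subgroup.center R) := hR.to_quotient _
    haveI : Nontrivial (R ⧸ Subgroup.center R) := by
      rw [QuotientGroup.nontrivial_iff]
      exact hab
    obtain ⟨ab, hab1⟩ := (Subgroup.nontrivial_iff_exists_ne_one _).1 hq.center_nontrivial
    obtain ⟨a, rfl⟩ := QuotientGroup.mk_surjective ab
    obtain ⟨hacen, ha1⟩ := hab1
    have hane : a ∉ Subgroup.center R := fun h => ha1 ((QuotientGroup.eq_one_iff a).2 h)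
    have hcomm : ∀ x : R, x * a * x⁻¹ * a⁻¹ ∈ Subgroup.center R := fun x => by
      rw [← QuotientGroup.eq_one_iff, QuotientGroup.mk_mul, QuotientGroup.mk_mul, QuotientGroup.mk_mul,
        QuotientGroup.mk_inv, QuotientGroup.mk_inv, Subgroup.mem_center_iff.1 hacen (QuotientGroup.mk x)]
      group
    have cube : ∀ (X : Set P), Subgroup.closure X = ⊤ →
        ∃ x ∈ X, Nat.card {v : V // φ x v = v} ^ 3 ≤ Nat.card V := by
      intro X hX
      obtain ⟨x, hx, hxH⟩ := exC X hX (Subgroup.centralizer ({a} : Set R)) (fun h => hane (Subgroup.mem_center_iff.2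
        fun y => ((Subgroup.mem_centralizer_iff.1 (show y ∈ Subgroup.centralizer ({a} : Set R) by rw [h]; trivial))
          a rfl).symm))
      refine ⟨x, hx, ?_⟩
      set cx : R := ⟨φ x, x, rfl⟩
      set z : R := cx * a * cx⁻¹ * a⁻¹ with hz
      have hzc := hcomm cx
      rw [← hz] at hzc
      have hz1 : z ≠ 1 := fun h => hxH (Subgroup.mem_centralizer_iff.2 fun y hy => by
        rw [Set.mem_singleton_iff] at hy
        subst hy
        rw [hz, mul_inv_eq_one, mul_inv_eq_iff_eq_mul] at h
        exact h.symm)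
      have hz2 : z * z ≠ 1 := fun h => by
        obtain ⟨k, hk⟩ := IsPGroup.iff_orderOf.1 hR z
        have hd : orderOf z ∣ 2 := orderOf_dvd_of_pow_eq_one (by rw [sq, h])
        rw [hk] at hd
        rcases Nat.eq_zero_or_pos k with rfl | hk0
        · exact hz1 (orderOf_eq_one_iff.1 (by simpa using hk))
        · have h2 : p ∣ 2 := (dvd_pow_self p (by omega)).trans hd
          have := Nat.le_of_dvd two_pos h2
          omega
      refine card_fixed_pow_three a.1 cx.1 z.1 ?_ ?_ ?_ (key z hzc hz1) fun v hv =>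
        key (z * z) (mul_mem hzc hzc) hz2 v hv
      · exact congrArg Subtype.val (show cx * a = z * (a * cx) by rw [hz]; group)
      · exact congrArg Subtype.val (Subgroup.mem_center_iff.1 hzc cx).symm
      · exact congrArg Subtype.val (Subgroup.mem_center_iff.1 hzc a).symm
    obtain ⟨c, hc, h3c⟩ := cube C hC
    obtain ⟨d, hd, h3d⟩ := cube D hD
    have h := Nat.pow_le_pow_left (hbound c d hc hd) 3
    rw [mul_pow] at h
    have h' := h.trans (Nat.mul_le_mul h3c h3d)
    have : Nat.card V * (Nat.card V * Nat.card V) ≤ 1 * (Nat.card V * Nat.card V) := by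
      rw [one_mul]; exact le_trans (le_of_eq (by ring)) h'
    have := Nat.le_of_mul_le_mul_right this (by positivity)
    omega

theorem eq_one_of_pow {N : Type*} [Group N] [Finite N] {m : N} {k : ℕ} (hco : (Nat.card N).Coprime p)
    (h : m ^ p ^ k = 1) : m = 1 := by
  have h1 : orderOf m ∣ p ^ k := orderOf_dvd_of_pow_eq_one h
  have h2 : orderOf m ∣ Nat.card N := orderOf_dvd_natCard m
  rw [← orderOf_eq_one_iff]
  exact Nat.eq_one_of_dvd_coprimes (hco.pow_right k) h2 h1

/-- A p-group satisfying the condition acts trivially. -/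
theorem fixed_of_cond.{u} (hp3 : 3 ≤ p) (hP : IsPGroup p P) {C D : Set P} (hC : Subgroup.closure C = ⊤)
    (hD : Subgroup.closure D = ⊤) : ∀ (n : ℕ) (N : Type u) [Group N] [Finite N] (φ : P →* MulAut N),
    Nat.card N = n → (Nat.card N).Coprime p → Cond φ C D → ∀ g x, φ g x = x := by
  intro n
  induction n using Nat.strong_induction_on with
  | _ n ih =>
    intro N _ _ φ hn hco hcond
    have sub : ∀ M : Subgroup N, M ≠ ⊤ → (∀ g, ∀ m ∈ M, φ g m ∈ M) → ∀ g, ∀ m ∈ M, φ g m = m := by
      intro M hM hinv
      let ψ : P →* MulAut M :=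
        { toFun := fun g =>
            { toFun := fun m => ⟨φ g m.1, hinv g _ m.2⟩
              invFun := fun m => ⟨φ g⁻¹ m.1, hinv g⁻¹ _ m.2⟩
              left_inv := fun m => Subtype.ext (by simp)
              right_inv := fun m => Subtype.ext (by simp)
              map_mul' := fun a b => Subtype.ext (by simp) }
          map_one' := MulEquiv.ext fun m => Subtype.ext (by simp)
          map_mul' := fun a b => MulEquiv.ext fun m => Subtype.ext (by simp) }
      have hlt : Nat.card M < n := by
        rw [← hn]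
        refine lt_of_le_of_ne (Subgroup.card_le_card_group M) fun e => hM (Subgroup.eq_top_of_card_eq M e)
      have := ih _ hlt M ψ rfl (Nat.Coprime.coprime_dvd_left M.card_subgroup_dvd_card hco) ?_
      · intro g m hm
        exact congrArg Subtype.val (this g ⟨m, hm⟩)
      · intro K hK x hx c hc d hd
        obtain ⟨y, hy, hy1, hy2⟩ := hcond (K.map M.subtype) (by
          rintro g _ ⟨m, hm, rfl⟩
          exact ⟨ψ g m, hK g m hm, rfl⟩) x.1 ⟨x, hx, rfl⟩ c hc d hd
        obtain ⟨y', hy', rfl⟩ := hy
        exact ⟨y', hy', Subtype.ext hy1, Subtype.ext hy2⟩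
    by_cases hex : ∃ M : Subgroup N, M.Normal ∧ (∀ g, ∀ m ∈ M, φ g m ∈ M) ∧ M ≠ ⊥ ∧ M ≠ ⊤
    · obtain ⟨M, hnorm, hinv, hbot, htop⟩ := hex
      haveI := hnorm
      have hM := sub M htop hinv
      let ψ0 : P → (N ⧸ M) →* (N ⧸ M) := fun g =>
        QuotientGroup.map M M (φ g).toMonoidHom (fun m hm => hinv g m hm)
      have hψ0 : ∀ g (x : N), ψ0 g (x : N ⧸ M) = ((φ g x : N) : N ⧸ M) := fun g x => rfl
      let ψ : P →* MulAut (N ⧸ M) :=
        { toFun := fun g =>
            { toFun := ψ0 g
              invFun := ψ0 g⁻¹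
              left_inv := fun q => by obtain ⟨x, rfl⟩ := QuotientGroup.mk_surjective q; simp [hψ0]
              right_inv := fun q => by obtain ⟨x, rfl⟩ := QuotientGroup.mk_surjective q; simp [hψ0]
              map_mul' := (ψ0 g).map_mul }
          map_one' := MulEquiv.ext fun q => by obtain ⟨x, rfl⟩ := QuotientGroup.mk_surjective q; simp [hψ0]
          map_mul' := fun a b => MulEquiv.ext fun q => by
            obtain ⟨x, rfl⟩ := QuotientGroup.mk_surjective q; simp [hψ0] }
      have hlt : Nat.card (N ⧸ M) < n := by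
        rw [← hn, Subgroup.card_eq_card_quotient_mul_card_subgroup M]
        exact lt_mul_of_one_lt_right Nat.card_pos ((Subgroup.one_lt_card_iff_ne_bot M).2 hbot)
      have hq := ih _ hlt (N ⧸ M) ψ rfl (Nat.Coprime.coprime_dvd_left M.card_quotient_dvd_card hco) ?_
      · intro g x
        have h1 : (φ g x : N ⧸ M) = x := hq g x
        rw [eq_comm, QuotientGroup.eq] at h1
        set m := x⁻¹ * φ g x with hm
        have hgx : φ g x = x * m := by rw [hm, mul_inv_cancel_left]
        have hk : ∀ k, φ (g ^ k) x = x * m ^ k := by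
          intro k
          induction k with
          | zero => simp
          | succ k ih' => rw [pow_succ', map_mul, MulAut.mul_apply, ih', map_mul, map_pow, hM g m h1, hgx, mul_assoc,
              ← pow_succ']
        obtain ⟨k, hk'⟩ := hP g
        have := hk (p ^ k)
        rw [hk', map_one, MulAut.one_apply, left_eq_mul] at this
        rw [hgx, eq_one_of_pow hco this, mul_one]
      · intro K hK x hx c hc d hd
        obtain ⟨x', rfl⟩ := QuotientGroup.mk_surjective x
        obtain ⟨y, hy, hy1, hy2⟩ := hcond (K.comap (QuotientGroup.mk' M)) (fun g m hm => hK g _ hm) x' hx c hc d hd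
        refine ⟨(y : N ⧸ M), hy, congrArg QuotientGroup.mk hy1, congrArg QuotientGroup.mk hy2⟩
    · push_neg at hex
      let F : Subgroup N := ⨅ g, (φ g).toMonoidHom.eqLocus (MonoidHom.id N)
      have hF : ∀ x, x ∈ F ↔ ∀ g, φ g x = x := fun x => Subgroup.mem_iInf
      suffices hFtop : F = ⊤ from fun g x => (hF x).1 (hFtop ▸ Subgroup.mem_top x) g
      by_contra hFne
      obtain ⟨q, hq, hqF⟩ : ∃ q, q.Prime ∧ (Nat.card F).factorization q < (Nat.card N).factorization q := by
        by_contra hcon
        push_neg at hcon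
        refine hFne (Subgroup.eq_top_of_card_eq F (Nat.dvd_antisymm F.card_subgroup_dvd_card
          ((Nat.factorization_le_iff_dvd Nat.card_pos.ne' Nat.card_pos.ne').1 fun q => ?_)))
        by_cases hq : q.Prime
        · exact hcon q hq
        · simp [Nat.factorization_eq_zero_of_not_prime _ hq]
      haveI := Fact.mk hq
      letI : MulAction P (Sylow q N) := MulAction.compHom _ φ
      obtain ⟨Q0⟩ := (inferInstance : Nonempty (Sylow q N))
      have hnd : ¬ p ∣ Nat.card (Sylow q N) := fun h => by
        have h1 := h.trans ((Sylow.card_dvd_index Q0).trans (Q0 : Subgroup N).index_dvd_card)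
        exact (Fact.out : p.Prime).not_dvd_one ((Nat.coprime_iff_gcd_eq_one.1 hco) ▸ Nat.dvd_gcd h1 dvd_rfl)
      obtain ⟨Q, hQ⟩ := hP.nonempty_fixed_point_of_prime_not_dvd_card (Sylow q N) hnd
      have hQinv : ∀ g, ∀ m ∈ (Q : Subgroup N), φ g m ∈ (Q : Subgroup N) := fun g m hm => by
        have h1 : φ g • Q = Q := hQ g
        rw [← h1]
        exact Subgroup.smul_mem_pointwise_smul m (φ g) (Q : Subgroup N) hm
      by_cases hQtop : (Q : Subgroup N) = ⊤
      · have hNq : IsPGroup q N :=
          IsPGroup.of_equiv (G := (Q : Subgroup N)) Q.isPGroup' ((MulEquiv.subgroupCongr hQtop).trans Subgroup.topEquiv)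
        haveI : Nontrivial N := by
          by_contra hnt
          rw [not_nontrivial_iff_subsingleton] at hnt
          exact hFne ((Subgroup.eq_top_iff' F).2 fun x => (Subsingleton.elim x 1) ▸ one_mem F)
        have hcent : Subgroup.center N = ⊤ := hex _ inferInstance (fun g m hm => by
            rw [Subgroup.mem_center_iff] at hm ⊢
            intro x
            obtain ⟨y, rfl⟩ := (φ g).surjective x
            rw [← map_mul, hm y, map_mul])
          (fun h => by have := hNq.center_nontrivial; rw [Subgroup.nontrivial_iff_ne_bot] at this; exact this h)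
        letI : CommGroup N :=
          { ‹Group N› with mul_comm := fun x y => (Subgroup.mem_center_iff.1 (hcent ▸ Subgroup.mem_top y) x) }
        have := irreducible_case hp3 hP φ hC hD hcond fun M hM => by
          by_cases hb : M = ⊥
          · exact Or.inl hb
          · exact Or.inr (hex M inferInstance hM hb)
        exact hFne ((Subgroup.eq_top_iff' F).2 fun x => (hF x).2 fun g => this g x)
      · have hle : (Q : Subgroup N) ≤ F := fun m hm => (hF m).2 fun g => sub _ hQtop hQinv g m hm
        have h1 := (Nat.factorization_le_iff_dvd Nat.card_pos.ne' Nat.card_pos.ne').2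
          (Subgroup.card_dvd_of_le hle) q
        rw [Q.card_eq_multiplicity, hq.factorization_pow, Finsupp.single_eq_same] at h1
        omega

end Cfsg.Agent.TwoSetsFixed
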